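import Mathlib.RingTheory.Smooth.Flat
import Mathlib.RingTheory.Kaehler.JacobiZariski
import Mathlib.RingTheory.Spectrum.Prime.FreeLocus
import Mathlib.RingTheory.Spectrum.Prime.Chevalley
import Mathlib.RingTheory.Ideal.GoingDown
import Mathlib.RingTheory.Unramified.Basic

/-! An unramified map between smooth algebras with equal ranks of differentials is smooth. -/

open scoped TensorProduct

noncomputable section

namespace Groth.Agent.LangLib

universe u

theorem smooth_of_formallyUnramified (K S T : Type u) [CommRing K] [CommRing S] [CommRing T] [Algebra K S]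
    [Algebra K T] [Algebra S T] [IsScalarTower K S T] [Algebra.Smooth K S] [Algebra.Smooth K T]
    [Algebra.FormallyUnramified S T]
    (hrank : ∀ p : PrimeSpectrum T, Module.rankAtStalk (R := T) Ω[T⁄K] p =
      Module.rankAtStalk (R := S) Ω[S⁄K] (p.comap (algebraMap S T))) : Algebra.Smooth S T := by
  let f := KaehlerDifferential.mapBaseChange K S T
  have hsurj : Function.Surjective f := fun x =>
    (KaehlerDifferential.exact_mapBaseChange_map K S T x).1 (Subsingleton.elim _ _)
  obtain ⟨s, hs⟩ := Module.projective_lifting_property f LinearMap.id hsurj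
  have : Function.Injective f := by
    let e := (Function.Exact.splitSurjectiveEquiv (LinearMap.exact_subtype_ker_map f) (Submodule.injective_subtype _) ⟨s, hs⟩).1
    have : Module.Projective T (LinearMap.ker f) :=
      Module.Projective.of_split (e.symm.toLinearMap.comp (LinearMap.inl T _ _))
        ((LinearMap.fst T _ _).comp e.toLinearMap) (LinearMap.ext fun x => by simp)
    have : Module.Finite T (LinearMap.ker f) := Module.Finite.of_surjective ((LinearMap.fst T _ _).comp e.toLinearMap)
      fun x => ⟨e.symm (x, 0), by simp⟩
    have h0 : Module.rankAtStalk (R := T) (LinearMap.ker f) = 0 := by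
      funext p
      have := congrFun (Module.rankAtStalk_eq_of_equiv (M := T ⊗[S] Ω[S⁄K]) (N := LinearMap.ker f × Ω[T⁄K]) (by exact e)) p
      rw [Module.rankAtStalk_baseChange, ← hrank, Module.rankAtStalk_prod, Pi.add_apply] at this
      simpa using this
    have := Module.rankAtStalk_eq_zero_iff_subsingleton.1 h0
    rw [← LinearMap.ker_eq_bot, ← Submodule.subsingleton_iff_eq_bot]
    exact this
  have hH : Subsingleton (Algebra.H1Cotangent S T) := by
    refine ⟨fun x y => ?_⟩
    have hz : ∀ x : Algebra.H1Cotangent S T, x = 0 := fun x => by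
      have h1 : Algebra.H1Cotangent.δ K S T x = 0 :=
        this (((Algebra.H1Cotangent.exact_δ_mapBaseChange K S T).apply_apply_eq_zero x).trans (map_zero _).symm)
      obtain ⟨w, rfl⟩ := (Algebra.H1Cotangent.exact_map_δ K S T x).1 h1
      rw [Subsingleton.elim w 0, map_zero]
    rw [hz x, hz y]
  have : Algebra.FinitePresentation S T := Algebra.FinitePresentation.of_restrict_scalars_finitePresentation K S T
  exact ⟨⟨inferInstance, hH⟩, this⟩

theorem isOpenMap_comap_of_smooth (S T : Type u) [CommRing S] [CommRing T] [Algebra S T] [Algebra.Smooth S T] :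
    IsOpenMap (PrimeSpectrum.comap (algebraMap S T)) :=
  PrimeSpectrum.isOpenMap_comap_of_hasGoingDown_of_finitePresentation

end Groth.Agent.LangLib
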