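import Groth.Agent.LangLib.EndoAlg
import Groth.Agent.AbVarLib.GeomIntegralSmooth
import Groth.Agent.SGA3cLib.GeomConn
import Mathlib.AlgebraicGeometry.AlgClosed.Basic
import Mathlib.AlgebraicGeometry.Morphisms.UniversallyOpen
import Mathlib.FieldTheory.Finite.Basic
import Mathlib.FieldTheory.IsAlgClosed.AlgebraicClosure
import Mathlib.NumberTheory.Multiplicity
import Mathlib.CategoryTheory.Monoidal.Cartesian.Grp
import Mathlib.CategoryTheory.Monoidal.Cartesian.Over

/-!
# Lang's theorem

For a smooth affine connected group `G` over a finite field `k` with Frobenius `F`, every point of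
`G` with values in an algebraically closed extension is of the form `g * F(g)⁻¹`.
-/

set_option autoImplicit false
set_option backward.isDefEq.respectTransparency.types false

universe u

open CategoryTheory Limits MonoidalCategory CartesianMonoidalCategory MonObj GrpObj AlgebraicGeometry

noncomputable section

attribute [local instance] Over.cartesianMonoidalCategory Over.braidedCategory

namespace Groth.Agent.LangLib

/-- An endomorphism-like map of smooth domains which is formally unramified is smooth. -/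
theorem smooth_ringHom (A S T : Type u) [CommRing A] [CommRing S] [CommRing T] [Algebra A S]
    [Algebra A T] [Algebra.Smooth A S] [Algebra.Smooth A T] (φ : S →ₐ[A] T)
    (hrank : ∀ (p : PrimeSpectrum T) (q : PrimeSpectrum S),
      Module.rankAtStalk (R := T) Ω[T⁄A] p = Module.rankAtStalk (R := S) Ω[S⁄A] q)
    (hinj : ∀ (C : Type u) [CommRing C] (I : Ideal C), I ^ 2 = ⊥ → ∀ a b : T →+* C,
      a.comp φ.toRingHom = b.comp φ.toRingHom → (∀ x, a x - b x ∈ I) → a = b) :
    φ.toRingHom.Smooth := by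
  letI := φ.toRingHom.toAlgebra
  have : IsScalarTower A S T := IsScalarTower.of_algebraMap_eq fun x => (φ.commutes x).symm
  have : Algebra.FormallyUnramified S T := by
    rw [Algebra.FormallyUnramified.iff_comp_injective]
    intro C _ _ I hI f g hfg
    refine AlgHom.coe_ringHom_injective (hinj C I hI f.toRingHom g.toRingHom ?_ fun x => ?_)
    · exact RingHom.ext fun s => (f.commutes s).trans (g.commutes s).symm
    · exact Ideal.Quotient.eq.1 (AlgHom.congr_fun hfg x)
  exact smooth_of_formallyUnramified A S T fun p => hrank p _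

theorem exists_closedPoint_of_isConstructible {X : Type u} [TopologicalSpace X] [JacobsonSpace X]
    {s : Set X} (hs : Topology.IsConstructible s) (hne : s.Nonempty) :
    ∃ c ∈ s, c ∈ closedPoints X := by
  induction s, hs using BooleanSubalgebra.closure_sdiff_sup_induction with
  | isSublattice =>
    exact ⟨fun s hs t ht ↦ ⟨hs.1.union ht.1, hs.2.union ht.2⟩,
      fun s hs t ht ↦ ⟨hs.1.inter ht.1, hs.2.inter_isOpen ht.2 ht.1⟩⟩
  | bot_mem => exact ⟨isOpen_empty, .empty⟩
  | top_mem => exact ⟨isOpen_univ, .univ⟩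
  | sdiff U hU V hV =>
    obtain ⟨c, hc, hc'⟩ := nonempty_inter_closedPoints hne
      (hU.1.isLocallyClosed.inter hV.1.isClosed_compl.isLocallyClosed)
    exact ⟨c, hc, hc'⟩
  | sup s _ t _ hs ht =>
    rcases hne with ⟨x, hx | hx⟩
    · obtain ⟨c, hc, hc'⟩ := hs ⟨x, hx⟩
      exact ⟨c, .inl hc, hc'⟩
    · obtain ⟨c, hc, hc'⟩ := ht ⟨x, hx⟩
      exact ⟨c, .inr hc, hc'⟩

section Frobenius

variable {k : Type u} [Field k]

theorem isoSpec_inv_appTop {Y : Scheme.{u}} [IsAffine Y] :
    Y.isoSpec.inv.appTop = (Scheme.ΓSpecIso Γ(Y, ⊤)).inv := by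
  have : IsIso Y.isoSpec.hom.appTop := by
    rw [Scheme.isoSpec_hom, Scheme.toSpecΓ_appTop]
    infer_instance
  rw [← cancel_mono Y.isoSpec.hom.appTop, ← Scheme.Hom.comp_appTop]
  simp [Scheme.isoSpec_hom]

/-- A morphism between affine schemes with prescribed map on global functions. -/
theorem exists_hom_appTop {X Y : Scheme.{u}} [IsAffine X] [IsAffine Y] (φ : Γ(Y, ⊤) ⟶ Γ(X, ⊤)) :
    ∃ f : X ⟶ Y, f.appTop = φ := by
  refine ⟨X.isoSpec.hom ≫ Spec.map φ ≫ Y.isoSpec.inv, ?_⟩
  simp [isoSpec_inv_appTop, Scheme.isoSpec_hom]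

/-- The `q`-power endomorphism of an affine `k`-scheme. -/
theorem exists_frobenius [Finite k] (Z : Over (Spec (CommRingCat.of k))) [IsAffine Z.left] :
    ∃ fr : Z ⟶ Z, ∀ s : Γ(Z.left, ⊤), fr.left.appTop s = s ^ Nat.card k := by
  have := Fintype.ofFinite k
  let ψ : k →+* Γ(Z.left, ⊤) := ((Scheme.ΓSpecIso (CommRingCat.of k)).inv ≫ Z.hom.appTop).hom
  letI := ψ.toAlgebra
  obtain ⟨f, hf⟩ := exists_hom_appTop
    (CommRingCat.ofHom (FiniteField.frobeniusAlgHom k Γ(Z.left, ⊤)).toRingHom : Γ(Z.left, ⊤) ⟶ Γ(Z.left, ⊤))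
  have hf' : ∀ s, f.appTop s = s ^ Nat.card k := fun s => by rw [hf, Nat.card_eq_fintype_card]; rfl
  have hw : f ≫ Z.hom = Z.hom := by
    refine ext_of_isAffine ?_
    rw [← cancel_epi (Scheme.ΓSpecIso (CommRingCat.of k)).inv]
    ext a
    change f.appTop (ψ a) = ψ a
    rw [hf', ← map_pow, Nat.card_eq_fintype_card, FiniteField.pow_card]
  exact ⟨Over.homMk f hw, hf'⟩

variable {G Z : Over (Spec (CommRingCat.of k))} [IsAffine G.left] (F : G ⟶ G)
  (hF : ∀ s : Γ(G.left, ⊤), F.left.appTop s = s ^ Nat.card k)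

include hF

theorem comp_frobenius (fr : Z ⟶ Z) (hfr : ∀ s : Γ(Z.left, ⊤), fr.left.appTop s = s ^ Nat.card k)
    (g : Z ⟶ G) : g ≫ F = fr ≫ g := by
  refine Over.OverMorphism.ext (ext_of_isAffine ?_)
  ext s
  change g.left.appTop (F.left.appTop s) = fr.left.appTop (g.left.appTop s)
  rw [hF, hfr, map_pow]

theorem comp_frobenius_eq (a b : Z ⟶ G)
    (h : ∀ s, a.left.appTop s ^ Nat.card k = b.left.appTop s ^ Nat.card k) : a ≫ F = b ≫ F := by
  refine Over.OverMorphism.ext (ext_of_isAffine ?_)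
  ext s
  change a.left.appTop (F.left.appTop s) = b.left.appTop (F.left.appTop s)
  rw [hF, map_pow, map_pow, h]

variable [GrpObj G] [Finite k] [IsAffine Z.left]

theorem mul_comp_frobenius (a b : Z ⟶ G) : (a * b) ≫ F = a ≫ F * b ≫ F := by
  obtain ⟨fr, hfr⟩ := exists_frobenius Z
  simp only [comp_frobenius F hF fr hfr, MonObj.comp_mul]

theorem inv_comp_frobenius (a : Z ⟶ G) : a⁻¹ ≫ F = (a ≫ F)⁻¹ := by
  obtain ⟨fr, hfr⟩ := exists_frobenius Z
  simp only [comp_frobenius F hF fr hfr, GrpObj.comp_inv]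

end Frobenius

variable {k : Type u} [Field k] [Finite k] (G : Over (Spec (CommRingCat.of k))) [GrpObj G]
  [IsAffine G.left] (F : G ⟶ G) (hF : ∀ s : Γ(G.left, ⊤), F.left.appTop s = s ^ Nat.card k)

/-- The base change of `G` to `T`, with the twisted Lang map `g ↦ g * h * F(g)⁻¹`. -/
def twistedLang {T : Over (Spec (CommRingCat.of k))} (h : T ⟶ G) : G ⊗ T ⟶ G ⊗ T :=
  CartesianMonoidalCategory.lift (fst G T * (snd G T ≫ h) * (fst G T ≫ F)⁻¹) (snd G T)

variable {G F}

theorem comp_twistedLang {T Z : Over (Spec (CommRingCat.of k))} (h : T ⟶ G) (a : Z ⟶ G ⊗ T) :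
    a ≫ twistedLang G F h =
      CartesianMonoidalCategory.lift
        (a ≫ fst G T * ((a ≫ snd G T) ≫ h) * ((a ≫ fst G T) ≫ F)⁻¹) (a ≫ snd G T) := by
  simp [twistedLang, MonObj.comp_mul, GrpObj.comp_inv, comp_lift]

include hF in
/-- The twisted Lang map is injective on infinitesimally near points. -/
theorem twistedLang_inj {T Z : Over (Spec (CommRingCat.of k))} (h : T ⟶ G) (a b : Z ⟶ G ⊗ T)
    (hq : ∀ s, (a ≫ fst G T).left.appTop s ^ Nat.card k = (b ≫ fst G T).left.appTop s ^ Nat.card k)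
    (hab : a ≫ twistedLang G F h = b ≫ twistedLang G F h) : a = b := by
  rw [comp_twistedLang, comp_twistedLang] at hab
  have h2 : a ≫ snd G T = b ≫ snd G T := by
    simpa using congrArg (· ≫ snd G T) hab
  have h1 := congrArg (· ≫ fst G T) hab
  simp only [lift_fst] at h1
  rw [h2, comp_frobenius_eq F hF _ _ hq] at h1
  exact CartesianMonoidalCategory.hom_ext _ _ (mul_right_cancel (mul_right_cancel h1)) h2

theorem pow_eq_pow_of_sub_sq {C : Type u} [CommRing C] (q : ℕ) (hq : (q : C) = 0) (x y : C)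
    (h : (x - y) ^ 2 = 0) : x ^ q = y ^ q := by
  have := sq_dvd_add_pow_sub_sub (x - y) y q
  rw [h, zero_dvd_iff, hq, mul_zero, sub_zero, add_sub_cancel] at this
  exact sub_eq_zero.1 this

variable [Smooth G.hom] [ConnectedSpace G.left]

include hF in
/-- **Lang's theorem** on points with values in an algebraically closed field. -/
theorem exists_mul_inv_frobenius_eq (Ω : Type u) [Field Ω] [IsAlgClosed Ω]
    (σ : Spec (CommRingCat.of Ω) ⟶ Spec (CommRingCat.of k)) (h : Over.mk σ ⟶ G) :
    ∃ g : Over.mk σ ⟶ G, g * (g ≫ F)⁻¹ = h := by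
  let T := Over.mk σ
  change ∃ g : T ⟶ G, g * (g ≫ F)⁻¹ = h
  let π : (G ⊗ T).left ⟶ Spec (CommRingCat.of Ω) := (snd G T).left
  have hπw : π ≫ σ = (G ⊗ T).hom := Over.w (snd G T)
  have : Smooth π := inferInstanceAs (Smooth (pullback.snd G.hom T.hom))
  have : IsAffine (G ⊗ T).left := inferInstanceAs (IsAffine (pullback G.hom σ))
  have : GeometricallyConnected G.hom := by
    have := SGA3cLib.geometricallyConnected_of_rational_point k G.hom (𝟙 G.left) η[G].left
      (Over.w η[G]) (by simp)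
    rwa [Category.id_comp] at this
  have : ConnectedSpace ↥(G ⊗ T).left :=
    GeometricallyConnected.geometrically_connectedSpace (f := G.hom) _ _ _ (IsPullback.of_hasPullback G.hom σ)
  have : IsIntegral (G ⊗ T).left := AbVarLib.isIntegral_of_smooth_connected π
  -- the ring of functions
  let ψ : Ω →+* Γ((G ⊗ T).left, ⊤) := ((Scheme.ΓSpecIso (CommRingCat.of Ω)).inv ≫ π.appTop).hom
  letI := ψ.toAlgebra
  have hψ : (G ⊗ T).left.isoSpec.inv ≫ π = Spec.map (CommRingCat.ofHom ψ) := by
    rw [← Scheme.isoSpec_inv_naturality, Scheme.isoSpec_Spec_inv, ← Spec.map_comp]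
    rfl
  have : Algebra.Smooth Ω Γ((G ⊗ T).left, ⊤) := by
    have h1 : Smooth (Spec.map (CommRingCat.ofHom ψ)) := hψ ▸ inferInstance
    exact (HasRingHomProperty.Spec_iff (P := @Smooth)).1 h1
  have hsmooth : ∀ l : T ⟶ G, Smooth (twistedLang G F l).left := by
    intro l
    set L := (twistedLang G F l).left
    have hL : L ≫ π = π := congrArg CommaMorphism.left
      (show twistedLang G F l ≫ snd G T = snd G T by simp [twistedLang])
    let φ : Γ((G ⊗ T).left, ⊤) →ₐ[Ω] Γ((G ⊗ T).left, ⊤) :=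
      { L.appTop.hom with
        commutes' := fun c => by
          change L.appTop (π.appTop _) = π.appTop _
          conv_rhs => rw [← hL]
          rfl }
    rw [HasRingHomProperty.iff_of_isAffine (P := @Smooth)]
    refine smooth_ringHom Ω Γ((G ⊗ T).left, ⊤) Γ((G ⊗ T).left, ⊤) φ (fun p q => ?_) ?_
    · have : Nonempty ↥(⊤ : (G ⊗ T).left.Opens) := ⟨⟨Classical.arbitrary _, trivial⟩⟩
      have : IsDomain Γ((G ⊗ T).left, ⊤) := inferInstance
      exact (Module.isLocallyConstant_rankAtStalk).apply_eq_of_preconnectedSpace p q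
    · intro C _ I hI a b hab hI'
      let ga : Spec (CommRingCat.of C) ⟶ (G ⊗ T).left :=
        Spec.map (CommRingCat.ofHom a) ≫ (G ⊗ T).left.isoSpec.inv
      let gb : Spec (CommRingCat.of C) ⟶ (G ⊗ T).left :=
        Spec.map (CommRingCat.ofHom b) ≫ (G ⊗ T).left.isoSpec.inv
      have hgL : ga ≫ L = gb ≫ L := by
        simp only [ga, gb, Category.assoc, ← Scheme.isoSpec_inv_naturality]
        rw [← Spec.map_comp_assoc, ← Spec.map_comp_assoc]
        congr 2
        ext x
        exact RingHom.congr_fun hab x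
      have hw : ga ≫ (G ⊗ T).hom = gb ≫ (G ⊗ T).hom := by
        rw [← hπw, ← hL]
        simp only [← Category.assoc, hgL]
      let a' : Over.mk (ga ≫ (G ⊗ T).hom) ⟶ G ⊗ T := Over.homMk ga rfl
      let b' : Over.mk (ga ≫ (G ⊗ T).hom) ⟶ G ⊗ T := Over.homMk gb hw.symm
      have hab' : a' = b' := by
        refine twistedLang_inj hF l a' b' (fun s => ?_) (Over.OverMorphism.ext hgL)
        refine pow_eq_pow_of_sub_sq _ ?_ _ _ ?_
        · let χ : k →+* Γ(Spec (CommRingCat.of C), ⊤) :=
            ((Scheme.ΓSpecIso (CommRingCat.of k)).inv ≫ (ga ≫ (G ⊗ T).hom).appTop).hom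
          have := Fintype.ofFinite k
          exact (map_natCast χ _).symm.trans (by
            rw [Nat.card_eq_fintype_card, Nat.cast_card_eq_zero, map_zero])
        · apply (Scheme.ΓSpecIso (CommRingCat.of C)).commRingCatIsoToRingEquiv.injective
          have key : ∀ (c : Γ((G ⊗ T).left, ⊤) →+* C) (x : Γ((G ⊗ T).left, ⊤)),
              (Scheme.ΓSpecIso (CommRingCat.of C)).hom
                ((Spec.map (CommRingCat.ofHom c) ≫ (G ⊗ T).left.isoSpec.inv).appTop x) = c x := by
            intro c x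
            have h3 := Scheme.ΓSpecIso_naturality (CommRingCat.ofHom c)
            rw [Scheme.Hom.comp_appTop, isoSpec_inv_appTop]
            exact (congrArg (fun m => m.hom ((Scheme.ΓSpecIso Γ((G ⊗ T).left, ⊤)).inv x)) h3).trans
              (congrArg c (congrArg (fun m => m.hom x) (Scheme.ΓSpecIso Γ((G ⊗ T).left, ⊤)).inv_hom_id))
          rw [map_pow, map_sub, map_zero]
          change ((Scheme.ΓSpecIso (CommRingCat.of C)).hom (ga.appTop ((fst G T).left.appTop s)) -
            (Scheme.ΓSpecIso (CommRingCat.of C)).hom (gb.appTop ((fst G T).left.appTop s))) ^ 2 = 0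
          rw [key, key, ← Ideal.mem_bot, ← hI]
          exact Ideal.pow_mem_pow (hI' _) 2
      have hg : ga = gb := congrArg CommaMorphism.left hab'
      exact congrArg CommRingCat.Hom.hom (Spec.map_injective ((cancel_mono _).1 hg))
  have hopen : ∀ l : T ⟶ G, IsOpen (Set.range (twistedLang G F l).left) := fun l =>
    have := hsmooth l
    (twistedLang G F l).left.isOpenMap.isOpen_range
  obtain ⟨z, hz⟩ := nonempty_preirreducible_inter (hopen 1) (hopen h)
    (Set.range_nonempty _) (Set.range_nonempty _)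
  have : JacobsonSpace ↥(G ⊗ T).left := LocallyOfFiniteType.jacobsonSpace π
  obtain ⟨z, ⟨⟨z₁, hz₁⟩, ⟨z₂, hz₂⟩⟩, hzc⟩ := nonempty_inter_closedPoints (Z :=
    Set.range (twistedLang G F 1).left ∩ Set.range (twistedLang G F h).left) ⟨z, hz⟩
    ((hopen 1).inter (hopen h)).isLocallyClosed
  have hlift : ∀ (l : T ⟶ G) (w : ↥(G ⊗ T).left), (twistedLang G F l).left w = z →
      ∃ p : T ⟶ G ⊗ T, p ≫ snd G T = 𝟙 T ∧
        (p ≫ twistedLang G F l).left (IsLocalRing.closedPoint Ω) = z := by
    intro l w hw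
    obtain ⟨w', hw', hw'c⟩ := nonempty_inter_closedPoints
      (Z := (twistedLang G F l).left ⁻¹' {z}) ⟨w, hw⟩
      (hzc.preimage (twistedLang G F l).left.continuous).isLocallyClosed
    let p : T ⟶ G ⊗ T := Over.homMk (pointOfClosedPoint π w' hw'c) (by
      rw [← hπw, pointOfClosedPoint_comp_assoc]; rfl)
    refine ⟨p, Over.OverMorphism.ext (pointOfClosedPoint_comp π w' hw'c), ?_⟩
    change (twistedLang G F l).left (pointOfClosedPoint π w' hw'c _) = z
    rw [pointOfClosedPoint_apply]
    exact hw'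
  obtain ⟨p₁, hp₁, e₁⟩ := hlift 1 z₁ hz₁
  obtain ⟨p₂, hp₂, e₂⟩ := hlift h z₂ hz₂
  have hs : ∀ (l : T ⟶ G) (p : T ⟶ G ⊗ T), p ≫ snd G T = 𝟙 T →
      (p ≫ twistedLang G F l).left ≫ π = 𝟙 _ := fun l p hp => congrArg CommaMorphism.left
    (show (p ≫ twistedLang G F l) ≫ snd G T = 𝟙 T by simp [twistedLang, hp])
  have heq : p₁ ≫ twistedLang G F 1 = p₂ ≫ twistedLang G F h := Over.OverMorphism.ext
    (ext_of_apply_closedPoint_eq π (hs 1 p₁ hp₁) (hs h p₂ hp₂) (e₁.trans e₂.symm))
  rw [comp_twistedLang, comp_twistedLang, hp₁, hp₂] at heq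
  have heq' := congrArg (· ≫ fst G T) heq
  simp only [lift_fst, Category.id_comp, _root_.mul_one] at heq'
  refine ⟨(p₂ ≫ fst G T)⁻¹ * (p₁ ≫ fst G T), ?_⟩
  have : IsAffine T.left := inferInstanceAs (IsAffine (Spec _))
  rw [mul_comp_frobenius F hF, inv_comp_frobenius F hF, _root_.mul_inv_rev, _root_.inv_inv,
    _root_.mul_assoc, ← _root_.mul_assoc (p₁ ≫ fst G T), heq']
  group

include hF in
/-- Lang's map is surjective. -/
theorem surjective_lang : Surjective ((𝟙 G * F⁻¹ : G ⟶ G).left) := by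
  set L := (𝟙 G * F⁻¹ : G ⟶ G).left
  have hw : L ≫ G.hom = G.hom := Over.w _
  have : LocallyOfFiniteType (L ≫ G.hom) := by rw [hw]; infer_instance
  have : LocallyOfFiniteType L := locallyOfFiniteType_of_comp L G.hom
  have : JacobsonSpace ↥G.left := LocallyOfFiniteType.jacobsonSpace G.hom
  have hcl : ∀ y ∈ closedPoints ↥G.left, y ∈ Set.range L := by
    intro y hy
    let κ := G.left.residueField y
    let Ω := AlgebraicClosure κ
    let pt : Spec (CommRingCat.of Ω) ⟶ G.left :=
      Spec.map (CommRingCat.ofHom (algebraMap κ Ω)) ≫ G.left.fromSpecResidueField y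
    let σ := pt ≫ G.hom
    let h : Over.mk σ ⟶ G := Over.homMk pt rfl
    obtain ⟨g, hg⟩ := exists_mul_inv_frobenius_eq hF Ω σ h
    have : g ≫ (𝟙 G * F⁻¹ : G ⟶ G) = h := by
      rw [MonObj.comp_mul, GrpObj.comp_inv, Category.comp_id, hg]
    refine ⟨g.left (IsLocalRing.closedPoint Ω), ?_⟩
    have h2 := congrArg (fun m : Over.mk σ ⟶ G => m.left (IsLocalRing.closedPoint Ω)) this
    exact h2.trans (Scheme.fromSpecResidueField_apply y _)
  have : IsLocallyNoetherian G.left := LocallyOfFiniteType.isLocallyNoetherian G.hom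
  have : LocallyOfFinitePresentation L := LocallyOfFinitePresentation.iff_locallyOfFiniteType.2 ‹_›
  have hcons : Topology.IsConstructible (Set.range L)ᶜ := by
    rw [Topology.isConstructible_compl, ← Set.image_univ]
    exact L.isConstructible_image Topology.IsConstructible.univ
  constructor
  intro y
  by_contra hy
  obtain ⟨c, hc, hc'⟩ := exists_closedPoint_of_isConstructible hcons ⟨y, hy⟩
  exact hc (hcl c hc')

end Groth.Agent.LangLib
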